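import Mathlib
import Groth.Prelude.Def_W4swconnpcurvhiggsLogLam

/-! helper7: pieces `E_I` of a logarithmic lambda-connection: partial derivatives in coordinates, Leibniz rule for the components, `B`-stability of the pieces (S16792) and their generation by finitely many elements (S16795). -/

set_option linter.style.haveILetI false
set_option linter.unusedVariables false
set_option linter.unusedSectionVars false

open TensorProduct

namespace Groth.Agent.Helper7.LogConnLib

universe v u

variable {A : Type v} {B L E : Type u} [CommRing A] [CommRing B] [Algebra A B]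
  [AddCommGroup L] [Module B L] [Module A L] [IsScalarTower A B L]
  [AddCommGroup E] [Module B E] [Module A E] [IsScalarTower A B E]
  (lam : B) {n : ℕ} (t : Fin n → B) (bΩ : Module.Basis (Fin n) B (KaehlerDifferential A B))
  (hbΩ : ∀ i, bΩ i = KaehlerDifferential.D A B (t i))
  (ω : Module.Basis (Fin n) B L) (ι : KaehlerDifferential A B →ₗ[B] L)
  (hι : ∀ i, ι (KaehlerDifferential.D A B (t i)) = t i • ω i)
  (nabla : E →ₗ[A] E ⊗[B] L)
  (hc : Conn.IsLamConn (ι.compDer (KaehlerDifferential.D A B)) lam nabla)

/-- The `i`-th partial derivative with respect to the coordinates whose differentials form `bΩ`. -/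
noncomputable def pd (i : Fin n) (b : B) : B := bΩ.coord i (KaehlerDifferential.D A B b)

theorem pd_mul (i : Fin n) (x y : B) : pd bΩ i (x * y) = x * pd bΩ i y + y * pd bΩ i x := by
  unfold pd
  rw [Derivation.leibniz, map_add, map_smul, map_smul, smul_eq_mul, smul_eq_mul]

include hbΩ in
theorem pd_t (i k : Fin n) : pd bΩ i (t k) = if k = i then 1 else 0 := by
  unfold pd
  rw [← hbΩ, Module.Basis.coord_apply, Module.Basis.repr_self, Finsupp.single_apply]

include hbΩ in
theorem pd_prod_eq_zero (i : Fin n) (T : Finset (Fin n)) (hi : i ∉ T) :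
    pd bΩ i (∏ k ∈ T, t k) = 0 := by
  classical
  induction T using Finset.induction_on with
  | empty =>
    unfold pd
    rw [Finset.prod_empty]
    have : KaehlerDifferential.D A B (1 : B) = 0 := Derivation.map_one_eq_zero _
    rw [this, map_zero]
  | insert a T ha ih =>
    rw [Finset.prod_insert ha, pd_mul, ih (fun h => hi (Finset.mem_insert_of_mem h)),
      pd_t t bΩ hbΩ, if_neg, mul_zero, mul_zero, add_zero]
    rintro rfl
    exact hi (Finset.mem_insert_self _ _)

include hbΩ hι in
theorem coord_iota_D (b : B) (i : Fin n) :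
    ω.coord i (ι (KaehlerDifferential.D A B b)) = pd bΩ i b * t i := by
  have h1 : KaehlerDifferential.D A B b = ∑ j, pd bΩ j b • bΩ j := by
    conv_lhs => rw [← bΩ.sum_repr (KaehlerDifferential.D A B b)]
    rfl
  rw [h1, map_sum, map_sum]
  simp_rw [map_smul, hbΩ, hι, map_smul, Module.Basis.coord_apply, Module.Basis.repr_self,
    Finsupp.single_apply, smul_eq_mul]
  rw [Finset.sum_eq_single i]
  · rw [if_pos rfl, mul_one]
  · intro j _ hj
    rw [if_neg hj, mul_zero, mul_zero]
  · intro h
    exact absurd (Finset.mem_univ i) h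

include hbΩ hι hc in
theorem comp_smul (i : Fin n) (b : B) (x : E) :
    LogConn.comp nabla ω i (b • x) =
      b • LogConn.comp nabla ω i x + (lam * (pd bΩ i b * t i)) • x := by
  unfold LogConn.comp
  rw [Conn.along_apply, Conn.along_apply, hc, map_add, map_add, map_smul, map_smul, map_smul,
    map_smul, TensorProduct.map_tmul, TensorProduct.rid_tmul, LinearMap.id_apply]
  congr 1
  have : (ι.compDer (KaehlerDifferential.D A B)) b = ι (KaehlerDifferential.D A B b) := rfl
  rw [this, coord_iota_D t bΩ hbΩ ω ι hι]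
  simp only [mul_smul]

theorem compProd_empty : LogConn.compProd nabla ω ∅ = LinearMap.id := by
  unfold LogConn.compProd
  rw [Finset.sort_empty]
  rfl

theorem compProd_insert (j : Fin n) (J : Finset (Fin n)) (h : ∀ x ∈ J, j < x) :
    LogConn.compProd nabla ω (insert j J) =
      LogConn.comp nabla ω j ∘ₗ LogConn.compProd nabla ω J := by
  unfold LogConn.compProd
  have hj : j ∉ J := fun hj => lt_irrefl j (h j hj)
  rw [Finset.sort_insert (r := (· ≤ ·)) (fun b hb => (h b hb).le) hj]
  rfl

/-- Generators of the piece lie in the piece. -/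
theorem gen_mem_piece (I J : Finset (Fin n)) (hJ : J ⊆ I) (y : E) :
    (∏ i ∈ I \ J, t i) • LogConn.compProd nabla ω J y ∈ LogConn.piece nabla ω t I := by
  unfold LogConn.piece
  refine Submodule.mem_iSup_of_mem J (Submodule.mem_iSup_of_mem (Finset.mem_powerset.mpr hJ) ?_)
  exact ⟨y, rfl⟩

/-- To show that an `A`-linear map sends the piece `E_J` into a submodule it suffices to check
the generators. -/
theorem piece_le_comap (J : Finset (Fin n)) (g : E →ₗ[A] E) (N : Submodule A E)
    (h : ∀ K ⊆ J, ∀ y : E, g ((∏ i ∈ J \ K, t i) • LogConn.compProd nabla ω K y) ∈ N) :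
    ∀ x ∈ LogConn.piece nabla ω t J, g x ∈ N := by
  have : LogConn.piece nabla ω t J ≤ N.comap g := by
    unfold LogConn.piece
    refine iSup₂_le (fun K hK => ?_)
    rintro _ ⟨y, rfl⟩
    exact h K (Finset.mem_powerset.mp hK) y
  exact fun x hx => this hx

theorem prod_smul_mem_piece (I J : Finset (Fin n)) (hJ : J ⊆ I) :
    ∀ x ∈ LogConn.piece nabla ω t J, (∏ i ∈ I \ J, t i) • x ∈ LogConn.piece nabla ω t I := by
  refine piece_le_comap t ω nabla J
    ((LinearMap.lsmul B E (∏ i ∈ I \ J, t i)).restrictScalars A) _ ?_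
  intro K hK y
  change (∏ i ∈ I \ J, t i) • ((∏ i ∈ J \ K, t i) • LogConn.compProd nabla ω K y) ∈ _
  rw [smul_smul]
  have hprod : (∏ i ∈ I \ J, t i) * (∏ i ∈ J \ K, t i) = ∏ i ∈ I \ K, t i := by
    classical
    rw [← Finset.prod_union]
    · congr 1
      ext a
      simp only [Finset.mem_union, Finset.mem_sdiff]
      constructor
      · rintro (⟨h1, h2⟩ | ⟨h1, h2⟩)
        · exact ⟨h1, fun h => h2 (hK h)⟩
        · exact ⟨hJ h1, h2⟩
      · rintro ⟨h1, h2⟩
        by_cases h3 : a ∈ J
        · exact Or.inr ⟨h3, h2⟩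
        · exact Or.inl ⟨h1, h3⟩
    · rw [Finset.disjoint_left]
      intro a ha hb
      exact (Finset.mem_sdiff.mp ha).2 (Finset.mem_sdiff.mp hb).1
  rw [hprod]
  exact gen_mem_piece t ω nabla I K (hK.trans hJ) y

include hbΩ hι hc in
theorem comp_mem_piece_insert (j : Fin n) (J : Finset (Fin n)) (h : ∀ x ∈ J, j < x) :
    ∀ x ∈ LogConn.piece nabla ω t J,
      LogConn.comp nabla ω j x ∈ LogConn.piece nabla ω t (insert j J) := by
  classical
  have hj : j ∉ J := fun hj => lt_irrefl j (h j hj)
  refine piece_le_comap t ω nabla J (LogConn.comp nabla ω j) _ ?_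
  intro K hK y
  rw [comp_smul lam t bΩ hbΩ ω ι hι nabla hc,
    pd_prod_eq_zero t bΩ hbΩ j (J \ K) (fun hh => hj (Finset.mem_sdiff.mp hh).1),
    zero_mul, mul_zero, zero_smul, add_zero]
  have h1 : LogConn.comp nabla ω j (LogConn.compProd nabla ω K y) =
      LogConn.compProd nabla ω (insert j K) y := by
    rw [compProd_insert ω nabla j K (fun x hx => h x (hK hx))]
    rfl
  have h2 : J \ K = insert j J \ insert j K := by
    ext a
    simp only [Finset.mem_sdiff, Finset.mem_insert]
    constructor
    · rintro ⟨ha1, ha2⟩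
      refine ⟨Or.inr ha1, ?_⟩
      rintro (ha3 | ha3)
      · exact hj (ha3 ▸ ha1)
      · exact ha2 ha3
    · rintro ⟨ha1 | ha1, ha2⟩
      · exact absurd (Or.inl ha1) ha2
      · exact ⟨ha1, fun ha3 => ha2 (Or.inr ha3)⟩
  rw [h1, h2]
  exact gen_mem_piece t ω nabla (insert j J) (insert j K) (Finset.insert_subset_insert j hK) y

include hbΩ hι hc in
/-- Claim Y: `b • ∇_J e` lies in the piece `E_J`. -/
theorem smul_compProd_mem_piece (J : Finset (Fin n)) :
    ∀ (b : B) (e : E), b • LogConn.compProd nabla ω J e ∈ LogConn.piece nabla ω t J := by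
  classical
  induction J using Finset.induction_on_min with
  | empty =>
    intro b e
    have := gen_mem_piece t ω nabla ∅ ∅ (Finset.Subset.refl _) (b • e)
    rw [Finset.sdiff_self, Finset.prod_empty, one_smul, compProd_empty] at this
    rw [compProd_empty]
    exact this
  | insert j J h ih =>
    intro b e
    have hj : j ∉ J := fun hj => lt_irrefl j (h j hj)
    rw [compProd_insert ω nabla j J h, LinearMap.comp_apply]
    have e1 : b • LogConn.comp nabla ω j (LogConn.compProd nabla ω J e) =
        LogConn.comp nabla ω j (b • LogConn.compProd nabla ω J e) -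
          (lam * (pd bΩ j b * t j)) • LogConn.compProd nabla ω J e := by
      rw [comp_smul lam t bΩ hbΩ ω ι hι nabla hc, add_sub_cancel_right]
    rw [e1]
    refine Submodule.sub_mem _ ?_ ?_
    · exact comp_mem_piece_insert lam t bΩ hbΩ ω ι hι nabla hc j J h _ (ih b e)
    · have h3 := prod_smul_mem_piece t ω nabla (insert j J) J (Finset.subset_insert j J) _
        (ih (lam * pd bΩ j b) e)
      have h4 : insert j J \ J = {j} := by
        ext a
        simp only [Finset.mem_sdiff, Finset.mem_insert, Finset.mem_singleton]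
        constructor
        · rintro ⟨h1 | h1, h2⟩
          · exact h1
          · exact absurd h1 h2
        · rintro rfl
          exact ⟨Or.inl rfl, hj⟩
      rw [h4, Finset.prod_singleton, smul_smul] at h3
      have h5 : t j * (lam * pd bΩ j b) = lam * (pd bΩ j b * t j) := by ring
      rw [h5] at h3
      exact h3

include hbΩ hι hc in
/-- S16792: the piece `E_I` is stable under multiplication by `B`. -/
theorem smul_mem_piece (I : Finset (Fin n)) (b : B) :
    ∀ x ∈ LogConn.piece nabla ω t I, b • x ∈ LogConn.piece nabla ω t I := by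
  refine piece_le_comap t ω nabla I ((LinearMap.lsmul B E b).restrictScalars A) _ ?_
  intro K hK y
  change b • ((∏ i ∈ I \ K, t i) • LogConn.compProd nabla ω K y) ∈ _
  rw [smul_comm]
  exact prod_smul_mem_piece t ω nabla I K hK _
    (smul_compProd_mem_piece lam t bΩ hbΩ ω ι hι nabla hc K b y)

/-- The `B`-span of the elements `t_{J∖K} ∇_K e`, `K ⊆ J`. -/
noncomputable def S (J : Finset (Fin n)) (e : E) : Submodule B E :=
  Submodule.span B {x | ∃ K ⊆ J, x = (∏ i ∈ J \ K, t i) • LogConn.compProd nabla ω K e}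

theorem sdiff_insert_insert (j : Fin n) (J K : Finset (Fin n)) (hj : j ∉ J) :
    J \ K = insert j J \ insert j K := by
  ext a
  simp only [Finset.mem_sdiff, Finset.mem_insert]
  constructor
  · rintro ⟨ha1, ha2⟩
    refine ⟨Or.inr ha1, ?_⟩
    rintro (ha3 | ha3)
    · exact hj (ha3 ▸ ha1)
    · exact ha2 ha3
  · rintro ⟨ha1 | ha1, ha2⟩
    · exact absurd (Or.inl ha1) ha2
    · exact ⟨ha1, fun ha3 => ha2 (Or.inr ha3)⟩

theorem insert_sdiff_of_notMem' (j : Fin n) (J K : Finset (Fin n)) (hj : j ∉ K) :
    insert j J \ K = insert j (J \ K) := by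
  ext a
  simp only [Finset.mem_sdiff, Finset.mem_insert]
  constructor
  · rintro ⟨ha1 | ha1, ha2⟩
    · exact Or.inl ha1
    · exact Or.inr ⟨ha1, ha2⟩
  · rintro (ha1 | ⟨ha1, ha2⟩)
    · exact ⟨Or.inl ha1, ha1 ▸ hj⟩
    · exact ⟨Or.inr ha1, ha2⟩

include hbΩ hι hc in
theorem comp_smul_mem_S_insert (j : Fin n) (J : Finset (Fin n)) (h : ∀ x ∈ J, j < x) (e : E)
    (x : E) (hx : x ∈ S t ω nabla J e) :
    ∀ c : B, LogConn.comp nabla ω j (c • x) ∈ S t ω nabla (insert j J) e := by
  classical
  have hj : j ∉ J := fun hj => lt_irrefl j (h j hj)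
  unfold S at hx
  refine Submodule.span_induction (p := fun x _ => ∀ c : B,
    LogConn.comp nabla ω j (c • x) ∈ S t ω nabla (insert j J) e) ?_ ?_ ?_ ?_ hx
  · rintro _ ⟨K, hK, rfl⟩ c
    rw [smul_smul, comp_smul lam t bΩ hbΩ ω ι hι nabla hc, pd_mul,
      pd_prod_eq_zero t bΩ hbΩ j (J \ K) (fun hh => hj (Finset.mem_sdiff.mp hh).1), mul_zero,
      zero_add]
    have hjK : j ∉ K := fun hh => hj (hK hh)
    have h1 : LogConn.comp nabla ω j (LogConn.compProd nabla ω K e) =
        LogConn.compProd nabla ω (insert j K) e := by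
      rw [compProd_insert ω nabla j K (fun x hx => h x (hK hx))]
      rfl
    refine Submodule.add_mem _ ?_ ?_
    · rw [h1, sdiff_insert_insert j J K hj, mul_smul]
      refine Submodule.smul_mem _ _ (Submodule.subset_span ?_)
      exact ⟨insert j K, Finset.insert_subset_insert j hK, rfl⟩
    · have h3 : lam * ((∏ i ∈ J \ K, t i) * pd bΩ j c * t j) =
          (lam * pd bΩ j c) * (∏ i ∈ insert j J \ K, t i) := by
        rw [insert_sdiff_of_notMem' j J K hjK, Finset.prod_insert
          (fun hh => hj (Finset.mem_sdiff.mp hh).1)]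
        ring
      rw [h3, mul_smul]
      refine Submodule.smul_mem _ _ (Submodule.subset_span ?_)
      exact ⟨K, hK.trans (Finset.subset_insert j J), rfl⟩
  · intro c
    rw [smul_zero, map_zero]
    exact Submodule.zero_mem _
  · intro x y _ _ hx hy c
    rw [smul_add, map_add]
    exact Submodule.add_mem _ (hx c) (hy c)
  · intro b x _ hx c
    rw [smul_smul]
    exact hx (c * b)

include hbΩ hι hc in
/-- Lemma X: `∇_J (b • e)` lies in the `B`-span of the `t_{J∖K} ∇_K e`, `K ⊆ J`. -/
theorem compProd_smul_mem_S (J : Finset (Fin n)) :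
    ∀ (b : B) (e : E), LogConn.compProd nabla ω J (b • e) ∈ S t ω nabla J e := by
  classical
  induction J using Finset.induction_on_min with
  | empty =>
    intro b e
    rw [compProd_empty, LinearMap.id_apply]
    refine Submodule.smul_mem _ _ (Submodule.subset_span ?_)
    refine ⟨∅, Finset.Subset.refl _, ?_⟩
    rw [Finset.sdiff_self, Finset.prod_empty, one_smul, compProd_empty, LinearMap.id_apply]
  | insert j J h ih =>
    intro b e
    rw [compProd_insert ω nabla j J h, LinearMap.comp_apply]
    have := comp_smul_mem_S_insert lam t bΩ hbΩ ω ι hι nabla hc j J h e _ (ih b e) 1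
    rwa [one_smul] at this

theorem prod_sdiff_mul (I J K : Finset (Fin n)) (hK : K ⊆ J) (hJ : J ⊆ I) :
    (∏ i ∈ I \ J, t i) * (∏ i ∈ J \ K, t i) = ∏ i ∈ I \ K, t i := by
  classical
  rw [← Finset.prod_union]
  · congr 1
    ext a
    simp only [Finset.mem_union, Finset.mem_sdiff]
    constructor
    · rintro (⟨h1, h2⟩ | ⟨h1, h2⟩)
      · exact ⟨h1, fun h => h2 (hK h)⟩
      · exact ⟨hJ h1, h2⟩
    · rintro ⟨h1, h2⟩
      by_cases h3 : a ∈ J
      · exact Or.inr ⟨h3, h2⟩
      · exact Or.inl ⟨h1, h3⟩
  · rw [Finset.disjoint_left]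
    intro a ha hb
    exact (Finset.mem_sdiff.mp ha).2 (Finset.mem_sdiff.mp hb).1

include hbΩ hι hc in
/-- S16795: if `E` is generated over `B` by the `e k`, the piece `E_I` is the `B`-span of the
elements `t_{I∖J} ∇_J (e k)`. -/
theorem span_eq_piece {m : ℕ} (e : Fin m → E) (he : Submodule.span B (Set.range e) = ⊤)
    (I : Finset (Fin n)) :
    (Submodule.span B (⋃ J ∈ I.powerset, Set.range (fun k : Fin m =>
        (∏ i ∈ I \ J, t i) • LogConn.compProd nabla ω J (e k)))).restrictScalars A =
      LogConn.piece nabla ω t I := by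
  apply le_antisymm
  · intro x hx
    rw [Submodule.restrictScalars_mem] at hx
    refine Submodule.span_induction (p := fun x _ => x ∈ LogConn.piece nabla ω t I)
      ?_ ?_ ?_ ?_ hx
    · intro x hx
      simp only [Set.mem_iUnion, Set.mem_range] at hx
      obtain ⟨J, hJ, k, rfl⟩ := hx
      exact gen_mem_piece t ω nabla I J (Finset.mem_powerset.mp hJ) (e k)
    · exact Submodule.zero_mem _
    · intro x y _ _ hx hy
      exact Submodule.add_mem _ hx hy
    · intro b x _ hx
      exact smul_mem_piece lam t bΩ hbΩ ω ι hι nabla hc I b x hx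
  · have Q : ∀ y : E, ∀ J ⊆ I, (∏ i ∈ I \ J, t i) • LogConn.compProd nabla ω J y ∈
        Submodule.span B (⋃ J ∈ I.powerset, Set.range (fun k : Fin m =>
          (∏ i ∈ I \ J, t i) • LogConn.compProd nabla ω J (e k))) := by
      intro y
      have hy : y ∈ Submodule.span B (Set.range e) := by rw [he]; exact Submodule.mem_top
      refine Submodule.span_induction (p := fun y _ => ∀ J ⊆ I,
        (∏ i ∈ I \ J, t i) • LogConn.compProd nabla ω J y ∈
        Submodule.span B (⋃ J ∈ I.powerset, Set.range (fun k : Fin m =>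
          (∏ i ∈ I \ J, t i) • LogConn.compProd nabla ω J (e k)))) ?_ ?_ ?_ ?_ hy
      · rintro _ ⟨k, rfl⟩ J hJ
        exact Submodule.subset_span
          (Set.mem_iUnion₂.mpr ⟨J, Finset.mem_powerset.mpr hJ, k, rfl⟩)
      · intro J hJ
        rw [map_zero, smul_zero]
        exact Submodule.zero_mem _
      · intro x y _ _ hx hy J hJ
        rw [map_add, smul_add]
        exact Submodule.add_mem _ (hx J hJ) (hy J hJ)
      · intro b y _ hy J hJ
        have hX := compProd_smul_mem_S lam t bΩ hbΩ ω ι hι nabla hc J b y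
        have hle : S t ω nabla J y ≤
            (Submodule.span B (⋃ J ∈ I.powerset, Set.range (fun k : Fin m =>
              (∏ i ∈ I \ J, t i) • LogConn.compProd nabla ω J (e k)))).comap
              (LinearMap.lsmul B E (∏ i ∈ I \ J, t i)) := by
          unfold S
          rw [Submodule.span_le]
          rintro _ ⟨K, hK, rfl⟩
          have h9 := hy K (hK.trans hJ)
          rw [← prod_sdiff_mul t I J K hK hJ, ← smul_smul] at h9
          exact h9
        exact hle hX
    unfold LogConn.piece
    refine iSup₂_le (fun J hJ => ?_)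
    rintro _ ⟨y, rfl⟩
    exact Q y J (Finset.mem_powerset.mp hJ)

end Groth.Agent.Helper7.LogConnLib
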